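import Cfsg.Agent.Lib.Block.PrimIdx.Moved
import Cfsg.Agent.Lib.Char.QuasiPrimitiveTools
import Cfsg.Agent.Lib.Char.ExtendMain

/-!
The degree of a primitive character of a solvable group is bounded, prime by prime, by the average
class size of the quotient by the scalar subgroup.
-/

set_option autoImplicit false
set_option linter.unusedSectionVars false
set_option linter.style.haveILetI false
set_option maxHeartbeats 800000

namespace Cfsg.Agent.Block.PrimIdx

open Cfsg Cfsg.Agent Cfsg.Agent.Char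
open scoped ComplexConjugate commutatorElement

universe u

/-- The elements acting as scalars. -/
noncomputable def cz {G : Type u} [Group G] [Finite G] {χ : G → ℂ} (hc : IsCharacter G χ) :
    Subgroup G :=
  haveI := charKer_normal hc
  (Subgroup.center (G ⧸ charKer hc)).comap (QuotientGroup.mk' (charKer hc))

instance cz_normal {G : Type u} [Group G] [Finite G] {χ : G → ℂ} (hc : IsCharacter G χ) :
    (cz hc).Normal :=
  haveI := charKer_normal hc
  (inferInstance : (Subgroup.center (G ⧸ charKer hc)).Normal).comap _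

theorem mem_cz {G : Type u} [Group G] [Finite G] {χ : G → ℂ} (hc : IsCharacter G χ) {z : G} :
    z ∈ cz hc ↔ ∀ g : G, χ (z * g * z⁻¹ * g⁻¹) = χ 1 := by
  haveI := charKer_normal hc
  rw [cz, Subgroup.mem_comap, Subgroup.mem_center_iff]
  constructor
  · intro h g
    rw [← mem_charKer hc, ← QuotientGroup.eq_one_iff]
    show (QuotientGroup.mk' (charKer hc)) (z * g * z⁻¹ * g⁻¹) = 1
    simp only [map_mul, map_inv]
    rw [← h, mul_inv_cancel_right, mul_inv_cancel]
  · intro h y
    obtain ⟨g, rfl⟩ := QuotientGroup.mk'_surjective (charKer hc) y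
    have h1 := (QuotientGroup.eq_one_iff (N := charKer hc) _).2 ((mem_charKer hc).2 (h g))
    change (QuotientGroup.mk' (charKer hc)) (z * g * z⁻¹ * g⁻¹) = 1 at h1
    simp only [map_mul, map_inv] at h1
    exact (mul_inv_eq_iff_eq_mul.1 (mul_inv_eq_one.1 h1)).symm

theorem charKer_le_cz {G : Type u} [Group G] [Finite G] {χ : G → ℂ} (hc : IsCharacter G χ) :
    charKer hc ≤ cz hc := fun x hx => by
  haveI := charKer_normal hc
  rw [cz, Subgroup.mem_comap, QuotientGroup.mk'_apply, (QuotientGroup.eq_one_iff x).2 hx]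
  exact one_mem _

/-- A character with the commutators in its kernel is linear. -/
theorem one_of_comm_ker {G : Type u} [Group G] [Fintype G] {φ : G → ℂ} (hφ : IsIrrCharacter G φ)
    (h : ∀ a b : G, φ ⁅a, b⁆ = φ 1) : φ 1 = 1 := by
  have hc := IsIrr.isCharacter hφ
  haveI := charKer_normal hc
  obtain ⟨ψ, hψ, hf⟩ := IsIrr.exists_factor_quotient hφ (charKer hc) fun k hk => (mem_charKer hc).1 hk
  rw [← hf 1]
  refine IsIrr.one_of_comm (fun a b => ?_) hψ
  obtain ⟨a, rfl⟩ := QuotientGroup.mk'_surjective (charKer hc) a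
  obtain ⟨b, rfl⟩ := QuotientGroup.mk'_surjective (charKer hc) b
  rw [← commutatorElement_eq_one_iff_mul_comm, ← map_commutatorElement, QuotientGroup.mk'_apply,
    QuotientGroup.eq_one_iff]
  exact (mem_charKer hc).2 (h a b)

/-- Normal subgroups that are abelian modulo the kernel consist of scalars. -/
theorem le_cz {G : Type u} [Group G] [Fintype G] {χ : G → ℂ} (hχ : IsIrrCharacter G χ)
    {L0 : Subgroup G} (hhom : QPrim.Homog L0 χ) (A : Subgroup G) [A.Normal] (hLA : L0 ≤ A)
    (hab : ∀ a ∈ A, ∀ b ∈ A, χ ⁅a, b⁆ = χ 1) : A ≤ cz (IsIrr.isCharacter hχ) := by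
  classical
  haveI := Fintype.ofFinite A
  obtain ⟨θ, e, hθ, he⟩ := hhom A inferInstance hLA
  have he' : ∀ a : A, χ a = (e : ℂ) * θ a := fun a => congrFun he a
  have he0 : (e : ℂ) ≠ 0 := fun h => IsIrr.one_ne_zero hχ (by
    rw [show χ 1 = χ ((1 : A) : G) from rfl, he', h, zero_mul])
  have hθ1 : θ 1 = 1 := one_of_comm_ker hθ fun a b => by
    refine mul_left_cancel₀ he0 ?_
    rw [← he', ← he']
    exact hab a a.2 b b.2
  obtain ⟨l, hl⟩ := linearHom_of_isCharacter (IsIrr.isCharacter hθ) hθ1
  have hval : ∀ a : A, χ a = (e : ℂ) * (l a : ℂ) := fun a => by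
    rw [he']; congr 1; exact congrFun hl a
  intro a ha
  rw [mem_cz]
  intro g
  set a' : A := ⟨g * a⁻¹ * g⁻¹, (inferInstance : A.Normal).conj_mem _ (inv_mem ha) g⟩
  have h2 : l a' = l ⟨a, ha⟩⁻¹ := by
    refine Units.ext (mul_left_cancel₀ he0 ?_)
    rw [← hval, ← hval]
    exact IsIrr.classFun hχ a⁻¹ g
  rw [show a * g * a⁻¹ * g⁻¹ = ((⟨a, ha⟩ * a' : A) : G) by
      rw [Subgroup.coe_mul]; show _ = a * (g * a⁻¹ * g⁻¹); group,
    show χ 1 = χ ((1 : A) : G) from rfl, hval, hval, map_mul, h2, map_inv, mul_inv_cancel, map_one]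

/-- The `p`-part of the class sizes averages at least `a`. -/
def Big (p a : ℕ) (X : Type u) [Group X] : Prop :=
  ∀ _i : Fintype X, a * Fintype.card X ≤
    ∑ x : X, (Subgroup.centralizer ({x} : Set X)).index.factorization p

theorem sum_hom {X Y : Type u} [Group X] [Fintype X] [Group Y] [Fintype Y] (f : X →* Y)
    (hf : Function.Surjective f) (F : Y → ℕ) :
    ∑ x : X, F (f x) = Nat.card f.ker * ∑ y : Y, F y := by
  have h := sum_comp_surjective f hf fun y => (F y : ℂ)
  exact_mod_cast h

/-- Lifting the bound along a surjection with some gain. -/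
theorem Big.comp {p a b : ℕ} {X Y : Type u} [Group X] [iX : Fintype X] [Group Y] [Finite Y]
    (h : Big p a Y) (f : X →* Y) (hf : Function.Surjective f) (g : X → ℕ)
    (hg : ∀ x, (Subgroup.centralizer ({f x} : Set Y)).index.factorization p + g x ≤
      (Subgroup.centralizer ({x} : Set X)).index.factorization p)
    (hb : b * Fintype.card X ≤ ∑ x, g x) : Big p (a + b) X := by
  intro inst
  cases Subsingleton.elim iX inst
  letI := Fintype.ofFinite Y
  have h1 := Nat.mul_le_mul_left (Nat.card f.ker) (h inferInstance)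
  have h2 := sum_hom f hf fun y => (Subgroup.centralizer ({y} : Set Y)).index.factorization p
  have h3 : Fintype.card X = Nat.card f.ker * Fintype.card Y := by
    have := sum_hom f hf fun _ => 1
    simpa using this
  have h4 := Finset.sum_le_sum (s := (Finset.univ : Finset X)) fun x _ => hg x
  rw [Finset.sum_add_distrib, h2] at h4
  rw [h3] at hb ⊢
  nlinarith

theorem Big.of_surjective {p a : ℕ} {X Y : Type u} [Group X] [Fintype X] [Group Y] [Finite Y]
    (h : Big p a Y) (f : X →* Y) (hf : Function.Surjective f) : Big p a X :=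
  h.comp (b := 0) f hf (fun _ => 0) (fun x => (Nat.factorization_le_iff_dvd
    Subgroup.index_ne_zero_of_finite Subgroup.index_ne_zero_of_finite).2
    (PrimClass.index_dvd_of_hom f hf x) p) (by simp)

/-- The class size gains the amount moved inside a normal subgroup. -/
theorem index_mul_relIndex_dvd {H Y : Type u} [Group H] [Group Y] [Finite H] (f : H →* Y)
    (hf : Function.Surjective f) (V : Subgroup H) [V.Normal] (hV : V ≤ f.ker) (h : H) :
    (Subgroup.centralizer ({f h} : Set Y)).index *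
      (Subgroup.centralizer ({h} : Set H)).relIndex V ∣
        (Subgroup.centralizer ({h} : Set H)).index := by
  set C := Subgroup.centralizer ({h} : Set H)
  have h1 := Subgroup.relIndex_mul_relIndex (C ⊓ V) C (C ⊔ V) inf_le_left le_sup_left
  have h2 := Subgroup.relIndex_mul_relIndex (C ⊓ V) V (C ⊔ V) inf_le_right le_sup_right
  rw [Subgroup.inf_relIndex_right, Subgroup.relIndex_sup_right] at h2
  rw [inf_comm, Subgroup.inf_relIndex_right, inf_comm, ← h2, mul_comm (C.relIndex V)] at h1
  have h3 := mul_left_cancel₀ (fun h0 => Subgroup.index_ne_zero_of_finite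
    (H := V.subgroupOf C) h0) h1
  rw [← Subgroup.relIndex_mul_index (le_sup_left (b := V) (a := C)), h3, mul_comm]
  refine Nat.mul_dvd_mul_left _ ?_
  rw [← Subgroup.index_comap_of_surjective _ hf]
  refine Subgroup.index_dvd_of_le (sup_le (fun x hx => ?_) fun x hx => ?_)
  · refine Subgroup.mem_comap.2 (Subgroup.mem_centralizer_singleton_iff.2 ?_)
    rw [← map_mul, ← map_mul, Subgroup.mem_centralizer_singleton_iff.1 hx]
  · rw [Subgroup.mem_comap, MonoidHom.mem_ker.1 (hV hx)]
    exact one_mem _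

/-- The first step: a chief factor above the scalars, with a fully ramified character. -/
theorem ramified {G : Type u} [Group G] [Fintype G] {χ : G → ℂ} (hχ : IsIrrCharacter G χ)
    {L0 : Subgroup G} (hle : L0 ≤ cz (IsIrr.isCharacter hχ)) (hhom : QPrim.Homog L0 χ)
    (M : Subgroup G) [M.Normal] [Fintype M] (hZM : cz (IsIrr.isCharacter hχ) ≤ M)
    (hcomm : ∀ a ∈ M, ∀ b ∈ M, ⁅a, b⁆ ∈ cz (IsIrr.isCharacter hχ))
    {θ : M → ℂ} {e : ℕ} (hθ : IsIrrCharacter M θ) (he : (fun m : M => χ m) = (e : ℂ) • θ)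
    {t : ℕ} (ht : θ 1 = t) :
    Nat.card (cz (IsIrr.isCharacter hχ)) * t ^ 2 = Nat.card M := by
  classical
  have hc := IsIrr.isCharacter hχ
  haveI := charKer_normal hc
  set mkK := QuotientGroup.mk' (charKer hc) with hmkK
  have he' : ∀ a : M, χ a = (e : ℂ) * θ a := fun a => congrFun he a
  have he0 : (e : ℂ) ≠ 0 := fun h => IsIrr.one_ne_zero hχ (by
    rw [show χ 1 = χ ((1 : M) : G) from rfl, he', h, zero_mul])
  have hvan : ∀ x : M, (x : G) ∉ cz hc → θ x = 0 := by
    intro x hx
    set Mb := M.map mkK with hMb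
    haveI : Mb.Normal := Subgroup.Normal.map inferInstance _ (QuotientGroup.mk'_surjective _)
    haveI : (Mb ⊓ Subgroup.centralizer (Mb : Set (G ⧸ charKer hc))).Normal :=
      Subgroup.normal_inf_normal _ _
    set A := (Mb ⊓ Subgroup.centralizer (Mb : Set (G ⧸ charKer hc))).comap mkK with hA
    haveI : A.Normal := (inferInstance :
      (Mb ⊓ Subgroup.centralizer (Mb : Set (G ⧸ charKer hc))).Normal).comap _
    have hAc : ∀ a ∈ A, ∀ b ∈ A, χ ⁅a, b⁆ = χ 1 := fun a ha b hb => by
      rw [← mem_charKer hc, ← QuotientGroup.eq_one_iff]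
      show mkK ⁅a, b⁆ = 1
      rw [map_commutatorElement, commutatorElement_eq_one_iff_mul_comm]
      exact (Subgroup.mem_centralizer_iff.1 ha.2 _ hb.1).symm
    have hZA : cz hc ≤ A := fun z hz =>
      ⟨Subgroup.mem_map_of_mem mkK (hZM hz), Subgroup.mem_centralizer_iff.2 fun y _ =>
        Subgroup.mem_center_iff.1 hz y⟩
    have hxA : (x : G) ∉ A := fun h => hx (le_cz hχ hhom A (hle.trans hZA) hAc h)
    obtain ⟨y, hy, hyx⟩ : ∃ y ∈ M, χ ⁅y, (x : G)⁆ ≠ χ 1 := by
      by_contra h
      push Not at h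
      refine hxA ⟨Subgroup.mem_map_of_mem mkK x.2, Subgroup.mem_centralizer_iff.2 ?_⟩
      rintro _ ⟨y, hy, rfl⟩
      rw [← commutatorElement_eq_one_iff_mul_comm, ← map_commutatorElement, hmkK,
        QuotientGroup.mk'_apply, QuotientGroup.eq_one_iff]
      exact (mem_charKer hc).2 (h y hy)
    obtain ⟨c, -, hcs⟩ := IsIrr.exists_scalar hχ ((mem_cz hc).1 (hcomm y hy x x.2))
    have hc1 : c ≠ 1 := fun h1 => hyx (by
      have := hcs 1
      rwa [h1, one_mul, mul_one] at this)
    have h := hcs x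
    rw [show ⁅y, (x : G)⁆ * x = y * x * y⁻¹ by simp only [commutatorElement_def]; group,
      IsIrr.classFun hχ x y] at h
    have h3 : (c - 1) * χ x = 0 := by rw [sub_mul, ← h, one_mul, sub_self]
    have h4 := (mul_eq_zero.1 h3).resolve_left (sub_ne_zero.2 hc1)
    rw [he'] at h4
    exact (mul_eq_zero.1 h4).resolve_left he0
  have hn : ∀ x : M, (x : G) ∈ cz hc → θ x * conj (θ x) = (t : ℂ) ^ 2 := by
    intro x hx
    obtain ⟨c, hcn, hcs⟩ := IsIrr.exists_scalar hχ ((mem_cz hc).1 hx)
    have h1 := hcs 1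
    rw [mul_one, he', show χ 1 = χ ((1 : M) : G) from rfl, he', ht, mul_left_comm] at h1
    rw [mul_left_cancel₀ he0 h1, map_mul, map_natCast, mul_mul_mul_comm, Complex.mul_conj,
      Complex.normSq_eq_norm_sq, hcn]
    simp [sq]
  have h := classInner_self_irr hθ
  rw [classInner, inv_mul_eq_one₀ (Nat.cast_ne_zero.2 Nat.card_pos.ne')] at h
  have hsum : ∑ x : M, θ x * conj (θ x) = ((Nat.card (cz hc) * t ^ 2 : ℕ) : ℂ) := by
    rw [← Finset.sum_filter_add_sum_filter_not Finset.univ (fun x : M => (x : G) ∈ cz hc),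
      Finset.sum_congr rfl (g := fun _ => (t : ℂ) ^ 2) fun x hx => hn _ (Finset.mem_filter.1 hx).2,
      Finset.sum_eq_zero (s := Finset.univ.filter fun x : M => (x : G) ∉ cz hc)
        fun x hx => by rw [hvan x (Finset.mem_filter.1 hx).2, zero_mul],
      add_zero, Finset.sum_const, nsmul_eq_mul, Nat.cast_mul, Nat.cast_pow]
    congr 2
    rw [← Fintype.card_subtype, ← Nat.card_eq_fintype_card]
    exact Nat.card_congr
      { toFun := fun x => ⟨x.1.1, x.2⟩
        invFun := fun x => ⟨⟨x.1, hZM x.2⟩, x.2⟩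
        left_inv := fun _ => rfl
        right_inv := fun _ => rfl }
  rw [hsum] at h
  exact_mod_cast h.symm

/-- The second step: the character of the cover modulo the chief factor. -/
theorem factor {G : Type u} [Group G] [Fintype G] [Group.IsSolvable G] {χ : G → ℂ}
    (hχ : IsIrrCharacter G χ) {L0 : Subgroup G} (hhom : QPrim.Homog L0 χ) (M : Subgroup G)
    [M.Normal] [Fintype M] (hLM : L0 ≤ M)
    {θ : M → ℂ} {e : ℕ} (hθ : IsIrrCharacter M θ) (he : (fun m : M => χ m) = (e : ℂ) • θ)
    {t : ℕ} (ht : θ 1 = t) :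
    ∃ (A : Type u) (_ : Group A) (_ : Fintype A) (β : A → ℂ) (hβ : IsIrrCharacter A β)
      (L : Subgroup A) (f : A →* G ⧸ M), Group.IsSolvable A ∧
      L ≤ cz (IsIrr.isCharacter hβ) ∧ QPrim.Homog L β ∧ Function.Surjective f ∧
      f.ker ≤ cz (IsIrr.isCharacter hβ) ∧ ∃ s : ℕ, β 1 = s ∧ χ 1 = ((t * s : ℕ) : ℂ) := by
  classical
  obtain ⟨d, ρ, hρ, hρθ⟩ := hθ
  haveI := hρ
  have he' : ∀ a : M, χ a = (e : ℂ) * θ a := fun a => congrFun he a
  have he0 : (e : ℂ) ≠ 0 := fun h => IsIrr.one_ne_zero hχ (by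
    rw [show χ 1 = χ ((1 : M) : G) from rfl, he', h, zero_mul])
  have hinv : ∀ (x : G) (m : M), ρ.character (conjEquivN M x m) = ρ.character m := by
    intro x m
    refine mul_left_cancel₀ he0 ?_
    rw [hρθ, ← he', ← he', conjEquivN_apply]
    exact IsIrr.classFun hχ (m : G) x
  haveI := Ext.finite_cover M ρ
  haveI := Ext.coverRep_irreducible M ρ
  letI := Fintype.ofFinite (Ext.cover M ρ)
  set π := Ext.coverFst M ρ with hπ
  have hπs : Function.Surjective π := Ext.coverFst_surjective M ρ hinv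
  set E := (Ext.coverRep M ρ).character with hE
  have hEi : IsIrrCharacter (Ext.cover M ρ) E := isIrrCharacter_character _
  set Kh := (Ext.coverEmb M ρ).range with hKh
  letI := Fintype.ofFinite Kh
  haveI : (Ext.coverRep M ρ).IsIrreducible := Ext.coverRep_irreducible M ρ
  -- restrictions of the cover representation above the chief factor
  have hres : ∀ (L : Subgroup (Ext.cover M ρ)) [Fintype L], Kh ≤ L →
      IsIrrCharacter L (fun x : L => E x) := by
    intro L _ hL
    have := Ext.isIrr_of_comp M ρ ((Ext.coverRep M ρ).comp L.subtype)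
      ((Ext.coverEmb M ρ).codRestrict L fun m => hL ⟨m, rfl⟩) fun m => rfl
    exact isIrrCharacter_character
      ((Ext.coverRep M ρ).comp L.subtype : Representation ℂ L (Fin d → ℂ))
  have hEN := hres Kh le_rfl
  set χh : Ext.cover M ρ → ℂ := fun x => χ (π x) with hχh
  have hχhi : IsIrrCharacter (Ext.cover M ρ) χh := IsIrr.comp_surjective π hπs hχ
  have hEemb : ∀ m : M, E (Ext.coverEmb M ρ m) = θ m := fun m => by rw [← hρθ]; rfl
  obtain ⟨hβi, hEβ⟩ := gallagher Kh hEi hχhi hEN (by
    rw [show (fun n : Kh => χh n) = (e : ℂ) • fun n : Kh => E n from funext fun n => by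
      obtain ⟨m, hm⟩ := n.2
      rw [Pi.smul_apply, smul_eq_mul, ← hm, hEemb, ← he']
      rw [hχh]
      exact congrArg χ (Ext.coverFst_emb M ρ m),
      classInner_smul_left, classInner_self_irr hEN, mul_one]
    exact he0)
  set β := avgN Kh (χh * fun x => conj (E x)) with hβ
  have hβK : ∀ z ∈ Kh, ∀ x, β (z * x) = β x := fun z hz x =>
    avgN_mul_left Kh _ ⟨z, hz⟩ x
  have hβc := IsIrr.isCharacter hβi
  have hKhcz : Kh ≤ cz hβc := fun z hz => charKer_le_cz hβc ((mem_charKer hβc).2 (by
    have := hβK z hz 1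
    rwa [mul_one] at this))
  have hkcz : π.ker ≤ cz hβc := fun z hz => (mem_cz hβc).2 fun g => by
    rw [← Subgroup.mem_center_iff.1 (Ext.ker_central M ρ hz) g, mul_inv_cancel_right,
      mul_inv_cancel]
  have hover : ∀ x, π x ∈ M → x ∈ Kh ⊔ π.ker := by
    intro x hx
    rw [← mul_inv_cancel_left (Ext.coverEmb M ρ ⟨π x, hx⟩) x]
    refine mul_mem (Subgroup.mem_sup_left ⟨_, rfl⟩) (Subgroup.mem_sup_right ?_)
    rw [MonoidHom.mem_ker, map_mul, map_inv]
    exact inv_mul_eq_one.2 (Ext.coverFst_emb M ρ ⟨π x, hx⟩)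
  have hsolv : Group.IsSolvable (Ext.cover M ρ) := by
    haveI : Group.IsSolvable π.ker := Group.isSolvable_of_comm fun a b =>
      Subtype.ext (Subgroup.mem_center_iff.1 (Ext.ker_central M ρ b.2) a)
    exact Group.isSolvable_of_ker_le_range π.ker.subtype π (by rw [Subgroup.range_subtype])
  obtain ⟨s, -, hs⟩ := IsIrr.one_eq_pos hβi
  refine ⟨Ext.cover M ρ, inferInstance, inferInstance, β, hβi, Kh ⊔ π.ker,
    (QuotientGroup.mk' M).comp π, hsolv, sup_le hKhcz hkcz, ?_,
    (QuotientGroup.mk'_surjective M).comp hπs, ?_, s, hs, ?_⟩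
  · intro L hL hLle
    haveI := hL
    letI := Fintype.ofFinite L
    obtain ⟨φ, c, hφ, hφc⟩ := QPrim.homog_comap π hπs hhom L hL
      (fun x hx => hLle (hover x (hLM hx)))
    have hKL : Kh ≤ L := le_sup_left.trans hLle
    set δ : L → ℂ := fun x => E x with hδ
    have hδi : IsIrrCharacter L δ := hres L hKL
    set K' := Kh.subgroupOf L
    letI := Fintype.ofFinite K'
    have hδK : IsIrrCharacter K' (fun x : K' => δ x) := by
      have := Ext.isIrr_of_comp M ρ (((Ext.coverRep M ρ).comp L.subtype).comp K'.subtype)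
        (((Ext.coverEmb M ρ).codRestrict L fun m => hKL ⟨m, rfl⟩).codRestrict K'
          fun m => ⟨m, rfl⟩) fun m => rfl
      exact isIrrCharacter_character
        (((Ext.coverRep M ρ).comp L.subtype).comp K'.subtype :
          Representation ℂ K' (Fin d → ℂ))
    set γ : L → ℂ := fun x => β x with hγ
    have hγc : IsCharacter L γ := IsChar.res hβc L
    have hγK : ∀ (n : K') (g : L), γ ((n : L) * g) = γ g := fun n g => hβK _ n.2 _
    have hmul : ∀ x : L, δ x * γ x = χh x := fun x => congrFun hEβ (x : Ext.cover M ρ)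
    have hcons : ∀ a : IrrCharacter L, classInner γ (a : L → ℂ) ≠ 0 →
        (∀ (n : K') (g : L), (a : L → ℂ) ((n : L) * g) = (a : L → ℂ) g) ∧
        δ * (a : L → ℂ) = φ := by
      intro a ha
      have haK : ∀ (n : K') (g : L), (a : L → ℂ) ((n : L) * g) = (a : L → ℂ) g := fun n g =>
        char_mul_ker (IsIrr.isCharacter a.2)
          (constituent_ker hγc a.2 ha (by
            have := hγK n 1
            rwa [mul_one] at this)) g
      have hprod : IsIrrCharacter L (δ * (a : L → ℂ)) :=
        IsChar.irr_of_norm_one (IsChar.mul (IsIrr.isCharacter hδi) (IsIrr.isCharacter a.2))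
          ((QPrim.classInner_mul_const K' hδi hδK haK haK).trans (classInner_self_irr a.2))
      refine ⟨haK, ?_⟩
      by_contra hne
      refine ha ?_
      rw [← QPrim.classInner_mul_const K' hδi hδK hγK haK,
        show δ * γ = (c : ℂ) • φ from (funext hmul).trans hφc, classInner_smul_left,
        classInner_irr_ne hφ hprod (Ne.symm hne), mul_zero]
    obtain ⟨a₀, ha₀⟩ := IsChar.exists_constituent' hγc (show γ 1 ≠ 0 by
      show β ((1 : L) : Ext.cover M ρ) ≠ 0
      rw [Subgroup.coe_one]
      exact IsIrr.one_ne_zero hβi)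
    obtain ⟨b, hb, hdec⟩ := IsChar.exists_decomp_inner hγc
    refine ⟨a₀, b a₀, a₀.2, hdec.trans (Finset.sum_eq_single a₀ (fun a _ hne => ?_)
      fun h => absurd (Finset.mem_univ _) h)⟩
    by_cases h0 : classInner γ (a : L → ℂ) = 0
    · rw [show (b a : ℂ) = 0 by rw [← hb, h0], zero_smul]
    · exfalso
      obtain ⟨hK1, h1⟩ := hcons a h0
      obtain ⟨hK2, h2⟩ := hcons a₀ ha₀
      have h3 := QPrim.classInner_mul_const K' hδi hδK hK1 hK2
      rw [h1, h2, classInner_self_irr hφ, classInner_irr_ne a.2 a₀.2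
        fun h => hne (Subtype.ext h)] at h3
      exact one_ne_zero h3
  · intro x hx
    exact sup_le hKhcz hkcz (hover x ((QuotientGroup.eq_one_iff (π x)).1 hx))
  · have h1 : E 1 = (t : ℂ) := by rw [← map_one (Ext.coverEmb M ρ), hEemb, ht]
    have h2 := congrFun hEβ 1
    rw [Pi.mul_apply, h1, hs] at h2
    rw [Nat.cast_mul, h2, hχh]
    show χ 1 = χ (π 1)
    rw [map_one]

/-- The main bound. -/
theorem big_of_homog (p : ℕ) [hp : Fact p.Prime] :
    ∀ (n : ℕ) {G : Type u} [Group G] [Fintype G] [Group.IsSolvable G] (χ : G → ℂ)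
      (hχ : IsIrrCharacter G χ) (L0 : Subgroup G), L0 ≤ cz (IsIrr.isCharacter hχ) →
      QPrim.Homog L0 χ → (cz (IsIrr.isCharacter hχ)).index ≤ n → ∀ d : ℕ, χ 1 = d →
        Big p (d.factorization p) (G ⧸ cz (IsIrr.isCharacter hχ)) := by
  intro n
  induction n with
  | zero => intro G _ _ _ χ hχ L0 _ _ h; exact absurd h (by simp [Subgroup.index_ne_zero_of_finite])
  | succ n ih =>
    intro G _ _ _ χ hχ L0 hle hhom hn d hd
    classical
    have hc := IsIrr.isCharacter hχ
    set Z := cz hc with hZ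
    by_cases hZtop : Z = ⊤
    · intro _
      have h1 : χ 1 = 1 := one_of_comm_ker hχ fun a b =>
        ((mem_cz hc).1 (by rw [← hZ, hZtop]; trivial) b)
      rw [hd] at h1
      rw [show d = 1 by exact_mod_cast h1, Nat.factorization_one]
      simp
    set π := QuotientGroup.mk' Z with hπ
    have hπs := QuotientGroup.mk'_surjective Z
    haveI : Nontrivial (G ⧸ Z) := QuotientGroup.nontrivial_iff.2 hZtop
    haveI : Group.IsSolvable (G ⧸ Z) := Group.isSolvable_of_surjective hπs
    letI := Fintype.ofFinite (G ⧸ Z)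
    obtain ⟨V, r, k, hVn, hVne, -, hr, hVc, hVab, hVmin⟩ :=
      exists_abelian_min (⊤ : Subgroup (G ⧸ Z)) top_ne_bot
    haveI := hVn
    haveI := Fact.mk hr
    set M := V.comap π with hM
    haveI : M.Normal := hVn.comap π
    letI := Fintype.ofFinite M
    have hZM : Z ≤ M := fun x hx => by
      rw [hM, Subgroup.mem_comap, hπ, QuotientGroup.mk'_apply, (QuotientGroup.eq_one_iff x).2 hx]
      exact one_mem _
    have hcomm : ∀ a ∈ M, ∀ b ∈ M, ⁅a, b⁆ ∈ Z := fun a ha b hb =>
      (QuotientGroup.eq_one_iff _).1 (show π ⁅a, b⁆ = 1 by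
        rw [map_commutatorElement, commutatorElement_eq_one_iff_mul_comm]
        exact hVab _ ha _ hb)
    obtain ⟨θ, e, hθ, he⟩ := hhom M inferInstance (hle.trans hZM)
    obtain ⟨t, ht0, ht⟩ := IsIrr.one_eq_pos hθ
    have hsq := ramified hχ hle hhom M hZM hcomm hθ he ht
    have hMc : Nat.card M = Nat.card Z * Nat.card V := by
      rw [hM, QPrim.card_comap_surj π hπs V, hπ, QuotientGroup.ker_mk']
    rw [hMc, hVc] at hsq
    have hVt : t ^ 2 = r ^ k := Nat.eq_of_mul_eq_mul_left Nat.card_pos hsq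
    obtain ⟨j, -, hj⟩ := (Nat.dvd_prime_pow hr).1 (hVt ▸ dvd_pow_self t two_ne_zero)
    have hk : k = 2 * j := by
      rw [hj, ← pow_mul] at hVt
      have := Nat.pow_right_injective hr.two_le hVt
      omega
    have hnc : ∃ v ∈ V, v ∉ Subgroup.center (G ⧸ Z) := by
      by_contra hcen
      push Not at hcen
      have hk0 : k ≠ 0 := fun h0 => hVne (Subgroup.eq_bot_of_card_eq _ (by rw [hVc, h0, pow_zero]))
      obtain ⟨v, hv⟩ := exists_prime_orderOf_dvd_card' (G := V) r (hVc ▸ dvd_pow_self r hk0)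
      have hz : (Subgroup.zpowers (v : G ⧸ Z)).Normal := ⟨fun x hx g => by
        have hxc : x ∈ Subgroup.center (G ⧸ Z) := Subgroup.zpowers_le.2 (hcen _ v.2) hx
        rwa [Subgroup.mem_center_iff.1 hxc g, mul_inv_cancel_right]⟩
      have hcard : Nat.card (Subgroup.zpowers (v : G ⧸ Z)) = r := by
        rw [Nat.card_zpowers, Subgroup.orderOf_coe, hv]
      rcases hVmin _ hz (Subgroup.zpowers_le.2 v.2) with h | h
      · rw [h, Subgroup.card_bot] at hcard
        exact hr.one_lt.ne hcard
      · rw [h, hVc] at hcard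
        have := (Nat.pow_eq_self_iff hr.one_lt).1 hcard
        omega
    obtain ⟨A, _, _, β, hβ, L, f, hAs, hL, hLhom, hfs, hfker, s, hs, hts⟩ :=
      factor hχ hhom M (hle.trans hZM) hθ he ht
    -- from the quotient of the cover to the quotient by the chief factor
    set Z' := cz (IsIrr.isCharacter hβ) with hZ'
    let g : (G ⧸ Z) →* G ⧸ M := QuotientGroup.map Z M (MonoidHom.id G) hZM
    have hgs : Function.Surjective g := fun x => by
      induction x using QuotientGroup.induction_on with
      | _ y => exact ⟨y, rfl⟩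
    have hgker : g.ker = V := by
      ext x
      obtain ⟨y, rfl⟩ := hπs x
      exact QuotientGroup.eq_one_iff y
    let Ψ : G ⧸ M →* A ⧸ Z' :=
      (QuotientGroup.map f.ker Z' (MonoidHom.id A) hfker).comp
        (QuotientGroup.quotientKerEquivOfSurjective f hfs).symm.toMonoidHom
    have hΨs : Function.Surjective Ψ := fun x => by
      induction x using QuotientGroup.induction_on with
      | _ y =>
        refine ⟨f y, ?_⟩
        show QuotientGroup.map f.ker Z' (MonoidHom.id A) hfker
          ((QuotientGroup.quotientKerEquivOfSurjective f hfs).symm (f y)) = _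
        rw [show (QuotientGroup.quotientKerEquivOfSurjective f hfs).symm (f y) = (y : A ⧸ f.ker)
          from (MulEquiv.symm_apply_eq _).2 rfl]
        rfl
    have hlt : Z'.index ≤ n := by
      have h1 : Nat.card (G ⧸ M) * Nat.card V = Nat.card (G ⧸ Z) := by
        rw [← QuotientGroup.quotientKerEquivOfSurjective g hgs |>.toEquiv |> Nat.card_congr, hgker,
          ← Subgroup.card_eq_card_quotient_mul_card_subgroup]
      have h2 : 1 < Nat.card V := (Subgroup.one_lt_card_iff_ne_bot V).2 hVne
      have h3 : Z'.index ≤ Nat.card (G ⧸ M) := by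
        rw [Subgroup.index_eq_card]; exact Nat.card_le_card_of_surjective Ψ hΨs
      have h4 : Nat.card (G ⧸ Z) ≤ n + 1 := by rw [← Subgroup.index_eq_card]; exact hn
      nlinarith [Nat.card_pos (α := G ⧸ M)]
    have hbig := ih (G := A) β hβ L hL hLhom hlt s hs
    haveI : Finite (A ⧸ Z') := inferInstance
    letI := Fintype.ofFinite (G ⧸ M)
    have hbig' : Big p (s.factorization p) (G ⧸ M) := hbig.of_surjective Ψ hΨs
    have hdts : d = t * s := by rw [hd] at hts; exact_mod_cast hts
    have hs0 : s ≠ 0 := fun h0 => IsIrr.one_ne_zero hβ (by rw [hs, h0, Nat.cast_zero])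
    rw [hdts, Nat.factorization_mul ht0.ne' hs0, Finsupp.add_apply, add_comm]
    refine hbig'.comp g hgs
      (fun x => ((Subgroup.centralizer ({x} : Set (G ⧸ Z))).relIndex V).factorization p)
      (fun x => ?_) ?_
    · have h1 := index_mul_relIndex_dvd g hgs V hgker.ge x
      have h2 : (Subgroup.centralizer ({x} : Set (G ⧸ Z))).relIndex V ≠ 0 :=
        Subgroup.index_ne_zero_of_finite
      have h3 := (Nat.factorization_le_iff_dvd (Nat.mul_ne_zero Subgroup.index_ne_zero_of_finite h2)
        Subgroup.index_ne_zero_of_finite).2 h1 p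
      rwa [Nat.factorization_mul Subgroup.index_ne_zero_of_finite h2, Finsupp.add_apply] at h3
    · by_cases hpr : p = r
      · subst hpr
        rw [hj, hp.out.factorization_pow, Finsupp.single_eq_same]
        have := moved_sum V hVab hVc hVmin hnc
        rw [hk] at this
        linarith
      · rw [hj, hr.factorization_pow, Finsupp.single_eq_of_ne hpr, zero_mul]
        exact Nat.zero_le _

theorem exists_class_ge {G : Type u} [Group G] [Fintype G] [Group.IsSolvable G] {χ : G → ℂ}
    (hχ : IsIrrCharacter G χ) (hp : PrimClass.Prim χ) (p : ℕ) [Fact p.Prime] {d : ℕ}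
    (hd : χ 1 = d) :
    ∃ g : G, d.factorization p ≤ (Subgroup.centralizer ({g} : Set G)).index.factorization p := by
  classical
  have hhom : QPrim.Homog (⊥ : Subgroup G) χ := fun M hM _ => by
    haveI := hM
    haveI := Fintype.ofFinite M
    obtain ⟨θ, e, hθ, -, -, h⟩ := PrimClass.homog hχ hp M
    exact ⟨θ, e, hθ, h⟩
  set Z := cz (IsIrr.isCharacter hχ)
  letI := Fintype.ofFinite (G ⧸ Z)
  have h := big_of_homog p _ χ hχ ⊥ bot_le hhom le_rfl d hd inferInstance
  by_contra hno
  push Not at hno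
  refine absurd h (not_le.2 ?_)
  refine (Finset.sum_lt_sum_of_nonempty Finset.univ_nonempty fun y _ => ?_).trans_eq
    (by rw [Finset.sum_const, Finset.card_univ, smul_eq_mul, mul_comm])
  obtain ⟨g, rfl⟩ := QuotientGroup.mk'_surjective Z y
  refine lt_of_le_of_lt ?_ (hno g)
  exact (Nat.factorization_le_iff_dvd Subgroup.index_ne_zero_of_finite
    Subgroup.index_ne_zero_of_finite).2
    (PrimClass.index_dvd_of_hom (QuotientGroup.mk' Z) (QuotientGroup.mk'_surjective Z) g) p

end Cfsg.Agent.Block.PrimIdx
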