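import Cfsg.Agent.Lib.Block.PrimClass.Main
import Cfsg.Agent.Lib.Block.PrimHalf.Coset
import Cfsg.Agent.Lib.Grp.Basic

/-!
A solvable group acting irreducibly and non-trivially on an abelian `r`-group moves on average at
least half of the exponent of its order.
-/

set_option autoImplicit false
set_option linter.unusedSectionVars false
set_option linter.style.haveILetI false

namespace Cfsg.Agent.Block.PrimIdx

open scoped commutatorElement

universe u

theorem exists_abelian_min {H : Type u} [Group H] [Finite H] [Group.IsSolvable H] (W : Subgroup H)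
    [W.Normal] (hW : W ≠ ⊥) :
    ∃ (V : Subgroup H) (r k : ℕ), V.Normal ∧ V ≠ ⊥ ∧ V ≤ W ∧ r.Prime ∧ Nat.card V = r ^ k ∧
      (∀ a ∈ V, ∀ b ∈ V, a * b = b * a) ∧ ∀ K : Subgroup H, K.Normal → K ≤ V → K = ⊥ ∨ K = V := by
  classical
  obtain ⟨V, hV, hne, hVW, hmin⟩ := Grp.exists_minimal_normal_le hW
  haveI := hV
  haveI : Nontrivial V := (Subgroup.nontrivial_iff_ne_bot _).2 hne
  have hab : ∀ a ∈ V, ∀ b ∈ V, a * b = b * a := by
    rcases hmin ((commutator V).map V.subtype) inferInstance (Subgroup.map_subtype_le _) with h | h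
    · intro a ha b hb
      rw [← commutatorElement_eq_one_iff_mul_comm, ← Subgroup.mem_bot, ← h]
      exact ⟨⁅(⟨a, ha⟩ : V), ⟨b, hb⟩⁆, Subgroup.commutator_mem_commutator trivial trivial,
        map_commutatorElement V.subtype _ _⟩
    · refine absurd ?_ (Group.IsSolvable.commutator_lt_top_of_nontrivial V).ne
      refine Subgroup.map_injective V.subtype_injective ?_
      rw [h, ← MonoidHom.range_eq_map, Subgroup.range_subtype]
  obtain ⟨r, hr, hrd⟩ := Nat.exists_prime_and_dvd (Finite.one_lt_card (α := V)).ne'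
  haveI := Fact.mk hr
  letI : CommGroup V :=
    { (inferInstance : Group V) with mul_comm := fun a b => Subtype.ext (hab a a.2 b b.2) }
  let S : Sylow r V := default
  haveI : (S : Subgroup V).Normal := inferInstance
  haveI : (S : Subgroup V).Characteristic := Sylow.characteristic_of_normal S inferInstance
  rcases hmin ((S : Subgroup V).map V.subtype) inferInstance (Subgroup.map_subtype_le _) with h | h
  · exfalso
    rw [(Subgroup.map_eq_bot_iff_of_injective _ V.subtype_injective)] at h
    exact S.ne_bot_of_dvd_card hrd h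
  · obtain ⟨k, hk⟩ := IsPGroup.iff_card.1 (h ▸ S.isPGroup'.map V.subtype : IsPGroup r V)
    exact ⟨V, r, k, hV, hne, hVW, hr, hk, hab, hmin⟩

/-- The averaged bound for a faithful action. -/
theorem two_sum_le {V : Type u} [CommGroup V] [Finite V] {B : Type u} [Group B] [Fintype B]
    [Group.IsSolvable B] [Nontrivial B] (σ : B →* MulAut V) (hinj : Function.Injective σ)
    {r k : ℕ} [hr : Fact r.Prime] (hV : Nat.card V = r ^ k)
    (hirr : ∀ U : Subgroup V, (∀ b, ∀ u ∈ U, σ b u ∈ U) → U = ⊥ ∨ U = ⊤) :
    2 * ∑ b : B, (Nat.card (PrimClass.fix σ b)).factorization r ≤ k * Fintype.card B := by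
  classical
  obtain ⟨A, q, j, hA, hAne, -, hq, hAc, hAab, -⟩ := exists_abelian_min (⊤ : Subgroup B) top_ne_bot
  haveI := hA
  haveI := Fact.mk hq
  haveI := Fintype.ofFinite A
  set τ : A →* MulAut V := σ.comp A.subtype with hτ
  -- the common fixed points
  set U : Subgroup V :=
    { carrier := {v | ∀ a : A, τ a v = v}
      mul_mem' := fun {x y} hx hy a => by rw [map_mul, hx a, hy a]
      one_mem' := fun a => map_one _
      inv_mem' := fun {x} hx a => by rw [map_inv, hx a] } with hU
  have hUbot : U = ⊥ := by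
    refine (hirr U fun b u hu a => ?_).resolve_right fun htop => ?_
    · have h1 : σ (b⁻¹ * a * b) u = u := hu ⟨b⁻¹ * a * b, by simpa using hA.conj_mem a a.2 b⁻¹⟩
      show σ a (σ b u) = σ b u
      conv_rhs => rw [← h1, ← PrimClass.act_mul]
      rw [← PrimClass.act_mul]
      congr 2
      group
    · refine hAne (le_bot_iff.1 fun a ha => Subgroup.mem_bot.2 (hinj ?_))
      rw [map_one]
      refine MulEquiv.ext fun v => ?_
      exact (htop ▸ Subgroup.mem_top v : v ∈ U) ⟨a, ha⟩
  have hfix : ∀ v : V, (∀ a, τ a v = v) → v = 1 := fun v hv =>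
    Subgroup.mem_bot.1 (hUbot ▸ (hv : v ∈ U))
  have hqr : q ≠ r := by
    rintro rfl
    -- a `p`-group fixes a non-trivial point
    letI : MulAction A V :=
      { smul := fun a v => τ a v
        one_smul := fun v => by show τ 1 v = v; rw [map_one]; rfl
        mul_smul := fun a b v => by show τ (a * b) v = τ a (τ b v); rw [map_mul]; rfl }
    have hk : k ≠ 0 := by
      intro h0
      haveI : Subsingleton V := (Nat.card_eq_one_iff_unique.1 (by rw [hV, h0, pow_zero])).1
      exact hAne (le_bot_iff.1 fun a ha => Subgroup.mem_bot.2 (hinj (by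
        rw [map_one]; exact MulEquiv.ext fun v => Subsingleton.elim _ _)))
    obtain ⟨v, hv, hv1⟩ := (IsPGroup.of_card hAc).exists_fixed_point_of_prime_dvd_card_of_fixed_point
      V (hV ▸ dvd_pow_self q hk) (a := 1) (fun a => map_one (τ a))
    exact hv1 (hfix v fun a => hv a).symm
  set P := ∏ b : B, Nat.card (PrimClass.fix σ b) with hP
  have hcoset : ∀ b : B, (∏ a : A, Nat.card (PrimClass.fix σ (b * a))) ^ 2 ≤
      Nat.card V ^ Fintype.card A := fun b => by
    have h := PrimHalf.prod_coset_le σ A hAab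
      (by rw [hV, hAc]; exact ((Nat.coprime_primes hr.out hq).2 hqr.symm).pow k j) b
      (fun a => ⟨fun h => by
          have := hA.conj_mem _ h b⁻¹
          rwa [show b⁻¹ * (b * a * b⁻¹) * b⁻¹⁻¹ = a by group] at this,
        fun h => hA.conj_mem a h b⟩)
      _ (⊤ : Subgroup V) le_rfl (fun _ _ _ _ => trivial) (fun _ _ => trivial)
      fun v _ hv => hfix v fun a => hv a a.2
    simpa only [inf_top_eq, Subgroup.card_top] using h
  have h5 : (P ^ 2) ^ Fintype.card A ≤ (Nat.card V ^ Fintype.card B) ^ Fintype.card A := by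
    have h := Finset.prod_le_prod' (s := (Finset.univ : Finset B)) fun b _ => hcoset b
    refine le_of_eq_of_le ?_ (h.trans_eq ?_)
    · rw [Finset.prod_pow, Finset.prod_comm, Finset.prod_congr rfl (g := fun _ : A => P) fun (a : A) _ => ?_,
        Finset.prod_const, Finset.card_univ, ← pow_mul, ← pow_mul, mul_comm]
      exact Equiv.prod_comp (Equiv.mulRight (a : B)) fun b => Nat.card (PrimClass.fix σ b)
    · rw [Finset.prod_const, Finset.card_univ, ← pow_mul, ← pow_mul, mul_comm]
  have h6 := (Nat.pow_le_pow_iff_left Fintype.card_ne_zero).1 h5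
  -- all fixed groups have `r`-power order
  have hF : ∀ b : B, Nat.card (PrimClass.fix σ b) =
      r ^ (Nat.card (PrimClass.fix σ b)).factorization r := fun b => by
    obtain ⟨i, -, hi⟩ := (Nat.dvd_prime_pow hr.out).1
      (hV ▸ Subgroup.card_subgroup_dvd_card (PrimClass.fix σ b))
    rw [hi, hr.out.factorization_pow, Finsupp.single_eq_same]
  rw [hP, hV, Finset.prod_congr rfl fun b _ => hF b, Finset.prod_pow_eq_pow_sum, ← pow_mul,
    ← pow_mul] at h6
  have h7 := (Nat.pow_le_pow_iff_right hr.out.one_lt).1 h6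
  linarith

/-- The averaged bound inside a group. -/
theorem moved_sum {H : Type u} [Group H] [Fintype H] [Group.IsSolvable H] (V : Subgroup H)
    [V.Normal] (hab : ∀ a ∈ V, ∀ b ∈ V, a * b = b * a) {r k : ℕ} [hr : Fact r.Prime]
    (hV : Nat.card V = r ^ k) (hmin : ∀ K : Subgroup H, K.Normal → K ≤ V → K = ⊥ ∨ K = V)
    (hnc : ∃ v ∈ V, v ∉ Subgroup.center H) :
    k * Fintype.card H ≤
      2 * ∑ h : H, ((Subgroup.centralizer ({h} : Set H)).relIndex V).factorization r := by
  classical
  letI : CommGroup V :=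
    { (inferInstance : Group V) with mul_comm := fun a b => Subtype.ext (hab a a.2 b b.2) }
  let σ : H →* MulAut V := MulAut.conjNormal
  set K := σ.ker
  let τ : H ⧸ K →* MulAut V := QuotientGroup.kerLift σ
  haveI : Group.IsSolvable (H ⧸ K) :=
    Group.isSolvable_of_surjective (f := QuotientGroup.mk' K) (QuotientGroup.mk'_surjective K)
  haveI : Fintype (H ⧸ K) := Fintype.ofFinite _
  haveI : Nontrivial (H ⧸ K) := QuotientGroup.nontrivial_iff.2 fun htop => by
    obtain ⟨v, hv, hvc⟩ := hnc
    refine hvc (Subgroup.mem_center_iff.2 fun g => ?_)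
    have h1 := congrArg (fun f : MulAut V => ((f ⟨v, hv⟩ : V) : H))
      (MonoidHom.mem_ker.1 (htop ▸ Subgroup.mem_top g : g ∈ K))
    simp only [σ, MulAut.conjNormal_apply, MulAut.one_apply] at h1
    exact mul_inv_eq_iff_eq_mul.1 h1
  have hirr : ∀ U : Subgroup V, (∀ b, ∀ u ∈ U, τ b u ∈ U) → U = ⊥ ∨ U = ⊤ := by
    intro U hU
    have hn : (U.map V.subtype).Normal := ⟨fun x ⟨u, hu, hux⟩ g => by
      refine ⟨σ g u, hU (g : H ⧸ K) u hu, ?_⟩
      rw [← hux]
      exact MulAut.conjNormal_apply g u⟩
    rcases hmin _ hn (Subgroup.map_subtype_le U) with h | h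
    · exact Or.inl ((Subgroup.map_eq_bot_iff_of_injective _ V.subtype_injective).1 h)
    · exact Or.inr (Subgroup.map_injective V.subtype_injective (by
        rw [h, ← MonoidHom.range_eq_map, Subgroup.range_subtype]))
  have h4 := two_sum_le τ (QuotientGroup.kerLift_injective σ) hV hirr
  set f : H ⧸ K → ℕ := fun b => (Nat.card (PrimClass.fix τ b)).factorization r
  have hmove : ∀ h : H,
      ((Subgroup.centralizer ({h} : Set H)).relIndex V).factorization r + f (h : H ⧸ K) = k := by
    intro h
    set C := Subgroup.centralizer ({h} : Set H)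
    have hc : Nat.card (PrimClass.fix τ (h : H ⧸ K)) = Nat.card (C ⊓ V : Subgroup H) := by
      refine Nat.card_congr
        { toFun := fun x => ⟨((x : V) : H), Subgroup.mem_centralizer_singleton_iff.2 ?_, (x : V).2⟩
          invFun := fun x => ⟨⟨x.1, x.2.2⟩, Subtype.ext ?_⟩
          left_inv := fun _ => rfl
          right_inv := fun _ => rfl }
      · have h1 : h * ((x : V) : H) * h⁻¹ = ((x : V) : H) := by
          have h0 := congrArg (fun y : V => (y : H)) (x.2 : τ (h : H ⧸ K) (x : V) = x)
          exact (MulAut.conjNormal_apply h (x : V)).symm.trans h0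
        exact (mul_inv_eq_iff_eq_mul.1 h1).symm
      · show h * x.1 * h⁻¹ = x.1
        rw [← Subgroup.mem_centralizer_singleton_iff.1 x.2.1, mul_inv_cancel_right]
    have h1 : Nat.card (C ⊓ V : Subgroup H) * C.relIndex V = Nat.card V := by
      rw [← Subgroup.inf_relIndex_right C V, ← Subgroup.relIndex_bot_left (C ⊓ V),
        Subgroup.relIndex_mul_relIndex _ _ _ bot_le inf_le_right, Subgroup.relIndex_bot_left]
    have h2 := congrArg (fun n => n.factorization r) h1
    have hne : C.relIndex V ≠ 0 := fun h0 => by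
      rw [h0, mul_zero] at h1; exact Nat.card_pos.ne h1
    simp only [Nat.factorization_mul Nat.card_pos.ne' hne, hV, hr.out.factorization_pow,
      Finsupp.coe_add, Pi.add_apply, Finsupp.single_eq_same] at h2
    simp only [f, hc]
    omega
  have hfib : ∑ h : H, f (h : H ⧸ K) = Nat.card K * ∑ b : H ⧸ K, f b := by
    rw [← Finset.sum_fiberwise Finset.univ (fun h : H => (h : H ⧸ K)), Finset.mul_sum]
    refine Finset.sum_congr rfl fun b _ => ?_
    obtain ⟨g₀, rfl⟩ := QuotientGroup.mk_surjective b
    rw [Finset.sum_congr rfl (g := fun _ => f (g₀ : H ⧸ K)) fun g hg => by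
      rw [(Finset.mem_filter.1 hg).2], Finset.sum_const, smul_eq_mul]
    congr 1
    rw [← Fintype.card_subtype, ← Nat.card_eq_fintype_card]
    exact Nat.card_congr
      { toFun := fun g => ⟨g₀⁻¹ * g.1, QuotientGroup.eq.1 g.2.symm⟩
        invFun := fun x => ⟨g₀ * x.1, QuotientGroup.mk_mul_of_mem g₀ x.2⟩
        left_inv := fun g => Subtype.ext (mul_inv_cancel_left g₀ g.1)
        right_inv := fun x => Subtype.ext (inv_mul_cancel_left g₀ x.1) }
  have hcard : Fintype.card H = Nat.card K * Fintype.card (H ⧸ K) := by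
    rw [← Nat.card_eq_fintype_card, ← Nat.card_eq_fintype_card,
      Subgroup.card_eq_card_quotient_mul_card_subgroup K, mul_comm]
  have htot : ∑ h : H, (((Subgroup.centralizer ({h} : Set H)).relIndex V).factorization r +
      f (h : H ⧸ K)) = k * Fintype.card H := by
    rw [Finset.sum_congr rfl fun h _ => hmove h, Finset.sum_const, Finset.card_univ, smul_eq_mul,
      mul_comm]
  rw [Finset.sum_add_distrib, hfib] at htot
  have h5 := Nat.mul_le_mul_left (Nat.card K) h4
  rw [hcard] at htot ⊢
  linarith

end Cfsg.Agent.Block.PrimIdx
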